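import Cfsg.Agent.INV.BS.L2E

/-!
# BS : the endings of `INV/L2S` with the sharp conclusion, II
-/

set_option autoImplicit false
set_option linter.unusedSectionVars false
open Cfsg Subgroup CL.MSS CL.Szc
open scoped MatrixGroups commutatorElement

namespace CL.L2S

universe u

variable {F : Type} [Field F] [Fintype F] [CharP F 2] {G : Type u} [Group G] [Finite G]

open Fcc in
theorem El.out2_C {Γ : Su F G} {Q : Subgroup G} (h : El Γ Q) {S : Subgroup G}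
    (hS : SylIn 2 S (normalizer (Q : Set G))) (hT : Q ⊔ Γ.T ≤ S) (hq : Fintype.card F = 4)
    (h1 : ¬ S ≤ Q ⊔ Γ.T) : Γ.Out2 := by
  have pS := hS.pgroup
  have hN := hS.le
  have QS : Q ≤ S := le_sup_left.trans hT
  have TS : Γ.T ≤ S := le_sup_right.trans hT
  have tS := TS Γ.t_mem_T
  have cj : ∀ s ∈ S, ∀ x ∈ Q, s * x * s⁻¹ ∈ Q := fun s hs x hx => conj_mem_of (hN hs) hx
  obtain ⟨c, hc, cz⟩ : ∃ c, Γ.Fi c ∧ ∀ s ∈ S, s * c * s⁻¹ * c⁻¹ ∈ Q := by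
    obtain ⟨z, zS, z1, z2, z3⟩ := Fcc.cen_inv pS QS hN fun e => h.tn (e tS)
    have L : ∀ w ∈ Q, ∀ a, z = w * a → ∀ s ∈ S, s * a * s⁻¹ * a⁻¹ ∈ Q := fun w hw a e s hs => by
      simpa [e, mul_assoc] using mul_mem (mul_mem (inv_mem (cj s hs w hw)) (z3 s hs)) hw
    rcases Γ.dec h.VQ h.BQ h.cen (h.cen_bar pS hT zS (by simpa [mul_assoc, Γ.t_inv] using z3 _ tS)) z2 with
      e | e | ⟨c, hc, w, hw, e⟩
    · exact absurd e z1
    · exact absurd (fun s hs => h.cen_bar pS hT hs (by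
        simpa [mul_assoc, Γ.t_inv] using inv_mem (L _ (cj _ tS _ e) Γ.t (by
          rw [Γ.t_t, inv_mul_cancel_right]) s hs))) h1
    · exact ⟨c, hc, L w hw c e⟩
  have cS := TS hc.mem
  have ci := inv_eq_of_mul_eq_one_right hc.sq
  have nV : ∀ {x}, Γ.Fi x → x ∉ Q := fun hx e => hx.nW (Γ.V_le_W (h.cen _ e (Γ.mem_C.1 (Γ.T_le_C hx.mem))))
  have cV : ¬ Γ.V ≤ centralizer {c} := fun e => hc.nW ((Γ.mem_W_iff hc.mem).2 fun v hv =>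
    mem_centralizer_singleton_iff.1 (e hv))
  have fr : ∀ {x}, Γ.Fi x → Nat.card ↥(Q ⊓ centralizer {x}) ≤ 4 := fun hx =>
    hq ▸ h.free (mem_sup_right hx.mem) (nV hx) (hx.sq ▸ one_mem _)
  obtain ⟨Z, hZ⟩ : ∃ Z, Z = Q ⊓ centralizer {c} := ⟨_, rfl⟩
  have mZ : ∀ {x}, x ∈ Z ↔ x ∈ Q ∧ x * c = c * x := by
    rw [hZ]; exact mem_inf.trans (and_congr_right' mem_centralizer_singleton_iff)
  have ZQ : Z ≤ Q := fun x hx => (mZ.1 hx).1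
  have c4 : Nat.card Z = 4 := hZ ▸ le_antisymm (fr hc) (hq ▸ h.free' (hN cS) (hc.sq ▸ one_mem _))
  have cZ : ∀ s ∈ S, s * c * s⁻¹ * c⁻¹ ∈ Z := fun s hs => mZ.2 ⟨cz s hs, by
    nth_rewrite 2 [← h.inv (cz s hs)]
    simp only [mul_inv_rev, inv_inv, ci, ← mul_assoc, hc.sq, one_mul]
    rw [mul_assoc _ c c, hc.sq, mul_one]⟩
  have act : ∀ s ∈ S, ∀ x ∈ Q, c * (s * x * s⁻¹) * c⁻¹ = s * (c * x * c⁻¹) * s⁻¹ := fun s hs x hx => by
    rw [← mul_inv_cancel_right (c * x * c⁻¹) (s⁻¹ * c * s⁻¹⁻¹ * c⁻¹), h.comm (cj c cS x hx) (cz _ (inv_mem hs))]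
    group
  have ZN : S ≤ normalizer (Z : Set G) := fun s hs => mem_norm_of fun x hx => mZ.2 ⟨cj s hs x (ZQ hx), by
    rw [eq_comm, ← mul_inv_eq_iff_eq_mul, act s hs x (ZQ hx), ← (mZ.1 hx).2, mul_inv_cancel_right]⟩
  obtain ⟨R, hR⟩ : ∃ R, R = S ⊓ centralizer (Z : Set G) := ⟨_, rfl⟩
  have RS : R ≤ S := hR ▸ inf_le_left
  have RZ : ∀ s ∈ R, ∀ z ∈ Z, z * s = s * z := fun s hs => (hR.le hs).2
  have RN : S ≤ normalizer (R : Set G) := hR ▸ le_normalizer_inf le_normalizer (le_normalizer_centralizer ZN)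
  have tR : Γ.t ∉ R := fun e => cV ((eq_of_le_of_card_ge (fun x hx => h.cen x (ZQ hx) (RZ _ e x hx))
    (by rw [c4, Γ.card_V, hq])).ge.trans (hZ.le.trans inf_le_right))
  have QR : Q ≤ R := fun x hx => hR.ge ⟨QS hx, fun z hz => h.comm (ZQ hz) hx⟩
  have cR : c ∈ R := hR.ge ⟨cS, fun z hz => (mZ.1 hz).2⟩
  have i1 : ∀ a ∈ S, ∀ b ∈ S, a ∉ R → b ∉ R → a * b ∈ R := fun a ha b hb ha' hb' => hR.ge ⟨mul_mem ha hb,
    idx pS ZN c4 (fun x hx => h.el x (ZQ hx)) ha hb (fun e => ha' (hR.ge ⟨ha, e⟩)) fun e => hb' (hR.ge ⟨hb, e⟩)⟩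
  have K1 : ∀ s ∈ R, ∀ x ∈ Q, s * x * s⁻¹ * x⁻¹ ∈ Z := fun s hs x hx =>
    mZ.2 ⟨mul_mem (cj s (RS hs) x hx) (inv_mem hx), by
      have e := RZ s hs _ (hZ.ge (h.nm_mem (hN cS) (hc.sq ▸ one_mem _) ⟨x, hx⟩))
      change x * (c * x * c⁻¹) * s = s * (x * (c * x * c⁻¹)) at e
      rw [eq_comm, ← mul_inv_eq_iff_eq_mul, ← conj_mul, act s (RS hs) x hx, ← conj_inv,
        ← inv_mul_cancel_left x (c * x * c⁻¹)]
      generalize x * (c * x * c⁻¹) = η at e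
      rw [← mul_assoc, mul_assoc _ η, (show Commute η s from e).inv_right.eq, mul_inv_rev, inv_inv, h.inv hx]
      group⟩
  have sq : ∀ s ∈ R, s * s ∈ Q := fun s hs => h.cenQ pS hN hT (RS (mul_mem hs hs)) fun x hx => by
    have m := K1 s hs x hx
    have e : s * x = s * x * s⁻¹ * x⁻¹ * (x * s) := by group
    generalize s * x * s⁻¹ * x⁻¹ = y at m e
    rw [mul_assoc s, e, ← mul_assoc s, ← RZ s hs y m, mul_assoc y, ← mul_assoc s, e, ← mul_assoc y, ← mul_assoc y,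
      h.el y (ZQ m), one_mul, mul_assoc]
  obtain ⟨Y, QY, cY, mY, c32⟩ : ∃ Y, Q ≤ Y ∧ c ∈ Y ∧ (∀ x ∈ Y, x ∈ Q ∨ ∃ a ∈ Q, x = a * c) ∧
      Nat.card Y = 2 * Nat.card Q := ⟨Q ⊔ zpowers c, le_sup_left, mem_sup_right (mem_zpowers c), fun x =>
    (GH4.mem_adj (cj c cS) (hc.sq ▸ one_mem _)).1, GH4.card_adj (cj c cS) (hc.sq ▸ one_mem _) (nV hc)⟩
  have Yle : ∀ X : Subgroup G, Q ≤ X → c ∈ X → Y ≤ X := fun X a b x hx =>
    (mY x hx).elim (@a x) fun ⟨w, hw, e⟩ => e ▸ mul_mem (a hw) b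
  have YR := Yle R QR cR
  have i2 : ∀ a ∈ Y, ∀ b ∈ Y, a ∉ Q → b ∉ Q → a⁻¹ * b ∈ Q := fun a ha b hb ha' hb' => by
    simpa using GH4.mem_or_of_card QY c32.le (inv_mem hb) (mt inv_mem_iff.1 hb') (inv_mem ha) (mt inv_mem_iff.1 ha')
  have κ0 : ∀ s ∈ R, Γ.t * (s * Γ.t * s⁻¹) ∈ Q → s ∈ Y := fun s hs e => by
    obtain ⟨τ, hτ, w, hw, rfl⟩ := mem_sup_of_norm (TS.trans hN) (sup_comm Q _ ▸ h.cen_bar pS hT (RS hs) e)
    have k : ∀ x ∈ R, x ∈ Γ.W → x ∈ Y := fun x hx e => QY (h.VQ ((Γ.mem_W'.1 e).resolve_right fun e =>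
      tR ((mul_mem_cancel_right hx).1 (QR (h.VQ e)))))
    have τR := (mul_mem_cancel_right (QR hw)).1 hs
    exact mul_mem (((hc.four hq).2 τ hτ).elim (k τ τR) fun e =>
      (mul_mem_cancel_left cY).1 (k _ (mul_mem cR τR) e)) (QY hw)
  have κ : ∀ s ∈ R, Γ.t * (s * Γ.t * s⁻¹) ∈ Y := fun s hs => by
    have m : Γ.t * (s * Γ.t * s⁻¹) ∈ R := by
      simpa [mul_assoc, Γ.t_inv] using mul_mem (conj_mem_of (RN tS) hs) (inv_mem hs)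
    exact κ0 _ m (by simpa [mul_assoc, Γ.t_inv, Γ.t_t] using inv_mem (sq _ m))
  have i3 : ∀ a ∈ R, ∀ b ∈ R, a ∉ Y → b ∉ Y → a⁻¹ * b ∈ Y := fun a ha b hb ha' hb' =>
    κ0 _ (mul_mem (inv_mem ha) hb) (by
      simpa [mul_assoc, Γ.t_inv, Γ.t_t] using cj _ (inv_mem (RS ha)) _
        (i2 _ (κ a ha) _ (κ b hb) (mt (κ0 a ha) ha') (mt (κ0 b hb) hb')))
  obtain ⟨b, bR, bY⟩ : ∃ b ∈ R, b ∉ Y := by
    obtain ⟨s, hs, e⟩ := SetLike.not_le_iff_exists.1 h1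
    have k := Yle _ le_sup_left (mem_sup_right hc.mem)
    exact (em (s ∈ R)).elim (fun f => ⟨s, f, mt (@k s) e⟩) fun f => ⟨_, i1 _ tS s hs tR f, fun g =>
      e ((mul_mem_cancel_left (mem_sup_right Γ.t_mem_T)).1 (k g))⟩
  have split : ∀ s w : G, s * (w * c) * s⁻¹ * (w * c)⁻¹ = s * w * s⁻¹ * (s * c * s⁻¹ * c⁻¹) * w⁻¹ := fun s w => by group
  have cm := comm2 (fun s hs y hy => (mY y hy).elim (K1 s hs y) fun ⟨w, hw, e⟩ => by
    rw [e, split, mul_assoc, h.comm (cz s (RS hs)) (inv_mem hw), ← mul_assoc]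
    exact mul_mem (K1 s hs w hw) (cZ s (RS hs))) i3 (RS.trans ZN)
  have c16 : Nat.card Q = 16 := by rw [h.card, hq]; rfl
  have c64 := GH4.two_mul_le_of_lt (lt_of_le_of_ne YR fun e => bY (e.ge bR))
  have nc : ∀ x ∈ R, ¬ IsConj Γ.t x := fun x hx e => by
    have c1 := card_le_mul_of_hom (X := R) (Y := Z) (Z := R ⊓ centralizer {x})
      (MonoidHom.mk' (fun s => s * x * (s : G)⁻¹ * x⁻¹) fun a d => by
        have := RZ _ (mul_mem (mul_mem hx (inv_mem a.2)) (inv_mem hx)) _ (cm _ d.2 x hx)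
        calc _ = a * (d * x * (d : G)⁻¹ * x⁻¹ * (x * (a : G)⁻¹ * x⁻¹)) := by rw [coe_mul]; group
          _ = _ := by rw [this]; group)
      (fun s => cm _ s.2 x hx) fun s e => ⟨s.2, mem_centralizer_singleton_iff.2
        (mul_inv_eq_iff_eq_mul.1 (mul_inv_eq_one.1 e))⟩
    rw [c4] at c1
    obtain ⟨g, g1, g2⟩ := Γ.conjT e ((pS.to_le RS).to_inf_left (K := centralizer {x})) inf_le_right
    have g3 := eq_of_le_of_card_ge (cj_le_iff_forall.2 g2) (by rw [card_cj, (hc.four hq).1]; omega)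
    have g4 : ∀ z ∈ Z, ∀ y ∈ Γ.T, y * (g * z * g⁻¹) = g * z * g⁻¹ * y := fun z hz y hy => by
      obtain ⟨w, hw, rfl⟩ := mem_cj'.1 (g3.ge hy)
      rw [conj_mul, conj_mul, RZ w hw.1 z hz]
    have g5 : g •ᶜ Z ≤ Γ.W ⊓ centralizer {c} := cj_le_iff_forall.2 fun z hz =>
      ⟨(Γ.mem_W_iff (g2 z ⟨QR (ZQ hz), mem_centralizer_singleton_iff.2 (RZ x hx z hz)⟩)).2
        fun v hv => g4 z hz v (Γ.V_le_T hv), mem_centralizer_singleton_iff.2 (g4 z hz c hc.mem).symm⟩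
    have g6 := GH4.two_mul_le_of_lt (lt_of_le_of_ne (inf_le_left : Γ.W ⊓ centralizer {c} ≤ _) fun e =>
      cV (Γ.V_le_W.trans (e.ge.trans inf_le_right)))
    rw [Γ.card_W, hq] at g6
    exact h.not_conj (ZQ (conj_mem_cj_iff.1 ((eq_of_le_of_card_ge g5 (by rw [card_cj]; omega)).ge (g1 ▸
      ⟨Γ.t_mem_W, mem_centralizer_singleton_iff.2 (Γ.mem_C.1 (Γ.T_le_C hc.mem)).symm⟩)))) e
  have iv : ∀ x ∈ S, x ∉ R → x * x = 1 → ∃ s ∈ S, x = s * Γ.t * s⁻¹ := fun x hx xR xx => by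
    have m := i1 _ tS x hx tR xR
    have xi := inv_eq_of_mul_eq_one_right xx
    have m' := κ0 _ m (by simpa [mul_assoc, Γ.t_inv, Γ.t_t, xi] using inv_mem (sq _ m))
    by_cases e : Γ.t * x ∈ Q
    · exact (h.conj_t e xx).imp fun w hw => ⟨QS hw.1, hw.2⟩
    obtain ⟨w, hw, f⟩ := h.conj_t (x := b⁻¹ * x * b⁻¹⁻¹) (by
      simpa [mul_assoc, Γ.t_inv, Γ.t_t] using cj _ (inv_mem (RS bR)) _ (i2 _ (κ b bR) _ m' (mt (κ0 b bR) bY) e))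
      (by rw [conj_mul, xx]; group)
    exact ⟨b * w, mul_mem (RS bR) (QS hw), by rw [mul_assoc b, mul_assoc b, mul_inv_rev, ← mul_assoc _ w⁻¹, ← f]; group⟩
  have iv' : ∀ g, g * Γ.t * g⁻¹ ∈ S → ∃ s ∈ S, g * Γ.t * g⁻¹ = s * Γ.t * s⁻¹ := fun g e =>
    iv _ e (fun f => nc _ f (isConj_iff.2 ⟨g, rfl⟩)) (by rw [conj_mul, Γ.tt]; group)
  have hS' := Γ.syl_of pS TS fun g hg => iv' g (conj_mem_of hg tS)
  have tE := Γ.not_mem_E hS' RS (((Nat.dvd_prime Nat.prime_two).1 (relIndex_dvd_two_iff.2 ⟨_, tS, fun a ha =>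
    (em (a ∈ R)).symm.imp_left (i1 a ha _ tS · tR)⟩)).resolve_left fun e => tR (relIndex_eq_one.1 e tS)) nc
  have YE := Yle Γ.E h.QE ((mul_mem_cancel_left (inv_mem (Γ.mul_mem_E tE
    (mt (Γ.conj_mem_E (isConj_iff.2 ⟨b, rfl⟩)).2 tE)))).1 (h.QE (i2 _ (κ b bR) c cY (mt (κ0 b bR) bY) (nV hc))))
  by_cases bE : b ∈ Γ.E
  · have : S ⊓ Γ.E = R := le_antisymm (fun s hs => by_contra fun e => tE ((mul_mem_cancel_right hs.2).1 (by
        have m := i1 _ tS s hs.1 tR e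
        exact (em (_ ∈ Y)).elim (@YE _) fun f => (mul_mem_cancel_left (inv_mem bE)).1 (YE (i3 b bR _ m bY f)))))
      fun s hs => ⟨RS hs, (em (s ∈ Y)).elim (@YE _) fun f => (mul_mem_cancel_left (inv_mem bE)).1 (YE (i3 b bR _ hs bY f))⟩
    exact Γ.out2_two (this ▸ Γ.sylE hS') (fun a ha b hb d hd => RZ d hd _ (cm a ha b hb)) (by
      have := Ee.le_two (X := R) (Y := Y) (f := b⁻¹) fun g hg => (em (g ∈ Y)).imp_right (i3 b bR g hg bY)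
      rw [hq]; omega) tE
  have RE : ∀ s ∈ R, s ∈ Γ.E → s ∈ Y := fun s hs e => by_contra fun f =>
    bE (inv_mem_iff.1 ((mul_mem_cancel_right e).1 (YE (i3 b bR s hs bY f))))
  have iY : ∀ x ∈ S ⊓ Γ.E, x * x = 1 → x ∈ Y := fun x hx xx => RE x (by_contra fun e => by
    obtain ⟨s, -, f⟩ := iv x hx.1 e xx
    exact tE ((Γ.conj_mem_E (isConj_iff.2 ⟨s, f.symm⟩)).2 hx.2)) hx.2
  obtain ⟨g, gE, g1⟩ := transfer (E := Γ.E) (Q := Q) (y := c) (by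
      obtain ⟨x, h1, h2, h3⟩ := Γ.exists_odd
      exact (Γ.sE.eq_bot_or_eq_top_of_normal _ oU_pResidual_normal).resolve_left fun e => h2 (congrArg Subtype.val
        (mem_bot.1 (e.le (subset_closure (show (⟨x, Γ.AE (Γ.H_le_A h1)⟩ : Γ.E) ∈ _ from
          Nat.coprime_two_right.2 (orderOf_mk x _ ▸ h3))))))) (Γ.sylE hS')
    (comm2 (Y := Y) (fun s hs y hy => (mY y hy).elim (fun e => mul_mem (cj s hs.1 y e) (inv_mem e)) fun ⟨w, hw, e⟩ => by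
        rw [e, split]
        exact mul_mem (mul_mem (cj s hs.1 w hw) (cz s hs.1)) (inv_mem hw))
      (fun a ha d hd ha' hd' => RE _ (i1 _ (inv_mem ha.1) d hd.1 (fun e => ha' (RE a (inv_mem_iff.1 e) ha.2))
        fun e => hd' (RE d e hd.2)) (mul_mem (inv_mem ha.2) hd.2)) (inf_le_left.trans hN))
    hc.sq ⟨cS, YE cY⟩ (nV hc) fun x hx xx => (em (x ∈ Q)).imp_right fun e => i2 x (iY x hx xx) c cY e (nV hc)
  obtain ⟨P, hP, TP⟩ := exists_sylIn_ge (Γ.pT.to_inf_left (K := centralizer {c})) inf_le_right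
  obtain ⟨n, hn, n1⟩ := hP.exists_conj_le (isPGroup_cj g⁻¹ h.pQ) (cj_le_iff_forall.2 fun x hx =>
    mem_centralizer_singleton_iff.2 (by
      calc g⁻¹ * x * g⁻¹⁻¹ * c = g⁻¹ * (x * (g * c * g⁻¹)) * g := by group
        _ = _ := by rw [h.comm hx g1]; group))
  obtain ⟨k, -, k1⟩ := hS'.exists_conj_le hP.pgroup le_top
  obtain ⟨s, hs, s1⟩ := iv' k (k1 (conj_mem_cj (TP ⟨Γ.t_mem_T,
    mem_centralizer_singleton_iff.2 (Γ.mem_C.1 (Γ.T_le_C hc.mem)).symm⟩)))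
  obtain ⟨l, lC, l1⟩ : ∃ l ∈ Γ.C, l •ᶜ P ≤ S := ⟨s⁻¹ * k, Γ.mem_C.2 (by
    calc s⁻¹ * k * Γ.t = s⁻¹ * (k * Γ.t * k⁻¹) * k := by group
      _ = _ := by rw [s1]; group), by rw [cj_mul]; exact cj_le_of_mem k1 (inv_mem hs)⟩
  have hc' : Γ.Fi (l * c * l⁻¹) := ⟨Γ.mem_T_of pS TS (l1 (conj_mem_cj (TP ⟨hc.mem, mem_centralizer_singleton_iff.2 rfl⟩)))
    (mul_mem (mul_mem lC (Γ.T_le_C hc.mem)) (inv_mem lC)), fun e => hc.nW (Γ.V_le_W (Γ.mem_V_of_A hc.mem (by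
      simpa [mul_assoc] using conj_mem_of (inv_mem (Γ.CN lC)) (Γ.V_le_A ((Γ.mem_W'.1 e).resolve_right fun e =>
        tE ((mul_mem_cancel_right (Γ.nE.conj_mem _ (YE cY) l)).1 (Γ.V_le_E e))))))), by
    rw [conj_mul, hc.sq]; group⟩
  have f1 := (cj_mono l n1)
  rw [← cj_mul, ← cj_mul] at f1
  have f2 : (l * n * g⁻¹) •ᶜ Q ≤ Y := cj_le_iff_forall.2 fun x hx =>
    iY _ ⟨l1 (f1 (conj_mem_cj hx)), Γ.nE.conj_mem _ (h.QE hx) _⟩ (by rw [conj_mul, h.el x hx]; group)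
  have f3 := S2L.Idx2.card_le (A := (l * n * g⁻¹) •ᶜ Q) (B := Q) fun a ha d hd ha' hd' => by
    simpa using i2 _ (inv_mem (f2 ha)) d (f2 hd) (mt inv_mem_iff.1 ha') hd'
  have f4 := (card_le_of_le (le_inf inf_le_right (inf_le_left.trans (f1.trans ((cj_mono l hP.le).trans
    (cj_centralizer_singleton l c).le))) : (l * n * g⁻¹) •ᶜ Q ⊓ Q ≤ _)).trans (fr hc')
  rw [card_cj] at f3
  omega

open Ee

namespace El

variable {Γ : Su F G} {Q : Subgroup G} (h : El Γ Q)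
include h

theorem out2_sc {S : Subgroup G} (hS : SylIn 2 S (normalizer (Q : Set G))) (hT : Q ⊔ Γ.T ≤ S)
    (hq : Fintype.card F ≠ 4 ∨ S ≤ Q ⊔ Γ.T) : Γ.Out2 := by
  have := Fact.mk Nat.prime_two
  have QS := le_sup_left.trans hT
  have wc : ∀ g, g •ᶜ Q ≤ S → g •ᶜ Q = Q := fun g hg => by_contra fun e =>
    h.num hS.pgroup hS.le hT hq hg le_rfl (fun k => e (cj_eq_of_le k)) fun b hb _ => by
      rw [card_cj, mul_comm]
      refine Nat.mul_le_mul_right _ (card_le_of_le fun x hx => ⟨hx.2, mem_centralizer_singleton_iff.2 ?_⟩)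
      obtain ⟨x, x1, rfl⟩ := mem_cj'.1 hx.1
      obtain ⟨b, b1, rfl⟩ := mem_cj'.1 hb
      rw [conj_mul, conj_mul, h.comm x1 b1]
  have hS' : SylIn 2 S ⊤ := hS.of_normalizer_le le_top fun g hg =>
    mem_normalizer_iff_cj.2 (wc g (cj_le_of_mem_normalizer QS hg.2))
  have tN := h.BQ (Γ.W_le_B Γ.t_mem_W)
  have c := card_le_of_le (sup_le QS (zpowers_le.2 (hT (mem_sup_right Γ.t_mem_T))))
  rw [Γ.card_sup_t tN h.tn, h.card] at c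
  have := Γ.four
  obtain ⟨x, hx, e⟩ := h.tr 1
  refine Γ.out2_sc h.nv hS' (hT (mem_sup_right Γ.t_mem_T)) ⟨x, QS hx, fun k => one_ne_zero (Γ.u_eq_one.1 ?_)⟩
    (by nlinarith) (le_inf QS h.QE) (fun k => one_ne_zero (Γ.u_eq_one.1 (mem_bot.1 (k ▸ h.VQ (Γ.u_mem 1)))))
    (fun _ a _ b => h.comm a b) fun y hy g hg => by_contra fun k => ?_
  · rw [k, mul_inv_cancel_right] at e; exact mul_eq_left.1 e.symm
  · obtain ⟨k, B, b1, b2, b3, b4⟩ := gp hS' QS h.el wc hy hg k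
    exact h.num hS.pgroup hS.le hT hq b1 b2 b3 b4

end El

namespace Lev.Exc

variable {Γ : Su F G} {Λ : Lev Γ} (h : Λ.Exc) (nv : Γ.Nv)
include h nv

theorem out2_B (hk : 1 ≤ Λ.k) : Γ.Out2 := by
  obtain ⟨S, hS⟩ := exists_sylIn 2 Λ.N
  obtain ⟨h1, h2⟩ := h.card_S nv hS
  have k : ∀ x g : G, x * x = 1 → g * x * g⁻¹ ∈ S → g * x * g⁻¹ ∈ Λ.P := fun x g e m =>
    h.inv_mem_P nv hk (hS.le m) (by rw [conj_mul, e]; group)
  have k2 : ∀ g ∈ normalizer (S : Set G), ∀ x ∈ Λ.Q, g * (Γ.t * x) * g⁻¹ ∈ Λ.P := fun g hg x hx =>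
    k _ g (Λ.sq_tx hx) (conj_mem_of hg (h1 (mul_mem Λ.t_mem_P (Λ.Q_le_P hx))))
  obtain ⟨x, hx, e⟩ := Λ.root hk 1
  refine Γ.out2_sc nv (hS.of_normalizer_le le_top fun g hg => mem_norm_of fun p hp => ?_) (h1 Λ.t_mem_P)
    ⟨x, h1 (Λ.Q_le_P hx), fun c => Γ.u1_ne (e ▸ Γ.sq_V (Λ.cen x hx c))⟩ ?_
    (le_inf (Λ.VQ.trans (Λ.Q_le_P.trans h1)) Γ.V_le_E) Γ.V_ne (fun a ha b hb => Γ.V_le_CV hb a ha)
    fun y hy g m => h.mem_V nv (k y g (Γ.sq_V hy) m) hy (isConj_iff.2 ⟨g, rfl⟩)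
  · rcases Λ.mem_P.1 hp with e | e
    · have := mul_mem (k2 g hg.2 1 (one_mem _)) (k2 g hg.2 p e)
      rwa [conj_mul, mul_one, Γ.t_t] at this
    · exact Γ.t_t p ▸ k2 g hg.2 _ e
  · rw [h2, Λ.card_P, h.card]
    have := Nat.one_lt_pow (Λ.k.succ_ne_zero) (show 1 < 8 by norm_num)
    omega

variable (hk : Λ.k = 0)
include hk

theorem out2_8 : Γ.Out2 := by
  obtain ⟨S, hS⟩ := exists_sylIn 2 Λ.N
  obtain ⟨WS, c⟩ := h.c128 nv hk hS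
  have hS' := h.syl nv hk hS
  have VS : Γ.V ≤ S ⊓ Γ.E := le_inf (Γ.V_le_W.trans WS) Γ.V_le_E
  by_cases q : ∀ s ∈ S ⊓ Γ.E, s * s = 1 → s ∈ Γ.W
  · obtain ⟨s, hs, e⟩ := h.trS nv hk hS 1
    refine Γ.out2_sc nv hS' (WS Γ.t_mem_W) ⟨s, hs, fun k => Γ.u1_ne ?_⟩ (by omega) VS Γ.V_ne
      (fun a ha b hb => Γ.V_le_CV hb a ha) fun y hy g hg => ?_
    · rwa [k, mul_inv_cancel_right, left_eq_mul] at e
    obtain ⟨x, k | k⟩ := Γ.mem_W.1 (q _ ⟨hg, Γ.nE.conj_mem _ (Γ.V_le_E hy) g⟩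
      (by rw [conj_mul, Γ.sq_V hy, mul_one, mul_inv_cancel]))
    · exact ⟨x, k⟩
    · obtain ⟨n, -, j⟩ := h.trS nv hk hS x
      exact absurd ((isConj_iff.2 ⟨n, j.trans k.symm⟩).trans (isConj_iff.2 ⟨g, rfl⟩).symm) (nv.V hy)
  push Not at q
  obtain ⟨s, hs, ss, sW⟩ := q
  have tE := h.t_notMem nv hk (hS.le hs.1) ss sW
  have WE : ∀ x ∈ Γ.W, x ∈ Γ.E → x ∈ Γ.V := fun x hx hE => (Γ.mem_W'.1 hx).resolve_right fun j =>
    tE ((Γ.E.mul_mem_cancel_right hE).1 (Γ.V_le_E j))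
  have := Γ.nE
  have := Γ.sE
  let ε := subgroupOfEquivOfLe Γ.V_le_E
  refine Or.inr (Or.inr ⟨h.card, E8.out (V := Γ.V.subgroupOf Γ.E) (S := (S ⊓ Γ.E).subgroupOf Γ.E)
    (τ := MulAut.conjNormal Γ.t) ⟨?_, ?_, comap_mono VS, fun x hx => mem_norm_of fun v hv => ?_, ?_,
    fun v hv => Subtype.ext (Γ.sq_V hv), fun x hx e => ?_, fun β => ?_,
    ⟨⟨s, hs.2⟩, hs, Subtype.ext ss, fun j => sW (Γ.V_le_W j)⟩, fun x => Subtype.ext ?_, fun v hv => Subtype.ext ?_,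
    fun x hx => ⟨?_, (MulAut.conjNormal Γ.t x).2⟩, fun v hv v1 x e k x2 => ?_, ?_, fun e => Γ.t1 ?_,
    fun v ⟨x, ex⟩ w ⟨y, ey⟩ v1 w1 => ?_, (Dvd.intro_left 72 ?_).trans (card_dvd_of_le Γ.AE)⟩⟩)
  · simpa using (Γ.sylE hS').subgroupOf le_rfl
  · have := Γ.card_inf_E (WS Γ.t_mem_W) tE
    rw [Nat.card_congr (subgroupOfEquivOfLe inf_le_right).toEquiv]
    omega
  · exact conj_mem_of (x := (v : G)) (Λ.N_le_NV nv (hS.le hx.1)) hv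
  · rw [Nat.card_congr ε.toEquiv, Γ.card_V, h.card]
  · exact WE _ (Λ.P_eq hk ▸ h.mem_P nv (hS.le hx.1) (.of_mem hS.pgroup hx.1) fun v hv =>
      congrArg Subtype.val (e ⟨v, Γ.V_le_E hv⟩ hv)) x.2
  · let υ : Multiplicative F ≃* Γ.V := MulEquiv.ofBijective
      (MonoidHom.mk' (fun x : Multiplicative F => (⟨Γ.u x.toAdd, Γ.u_mem _⟩ : Γ.V)) fun _ _ => Subtype.ext (Γ.u_add _ _))
      ⟨fun _ _ e => Γ.u_inj (congrArg Subtype.val e), fun ⟨_, x, e⟩ => ⟨.ofAdd x, Subtype.ext e.symm⟩⟩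
    obtain ⟨g, -, e⟩ := h.full (AddEquiv.toMultiplicative.symm ((υ.trans ε.symm).trans (β.trans (ε.trans υ.symm))))
    have k : ∀ v : Γ.V.subgroupOf Γ.E, g * v * g⁻¹ = β v := fun v => by
      obtain ⟨x, rfl⟩ := (υ.trans ε.symm).surjective v
      exact (e x.toAdd).trans (congrArg Subtype.val (υ.apply_symm_apply _))
    rcases Γ.gen g with j | j
    · exact ⟨⟨g, j⟩, fun v => Subtype.ext (k v)⟩
    refine ⟨⟨_, j⟩, fun v => Subtype.ext ?_⟩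
    calc _ = Γ.t * (g * v * g⁻¹) * Γ.t⁻¹ := by simp only [coe_mul, coe_inv]; group
      _ = _ := by rw [k, Γ.t_comm (Γ.V_le_A (mem_subgroupOf.1 (β v).2)), mul_inv_cancel_right]
  · simp only [MulAut.conjNormal_apply, Γ.t_inv, mul_assoc, Γ.t_t, Γ.tt, mul_one]
  · rw [MulAut.conjNormal_apply, Γ.t_comm (Γ.V_le_A (mem_subgroupOf.1 hv)), mul_inv_cancel_right]
  · exact S.mul_mem (S.mul_mem (WS Γ.t_mem_W) hx.1) (S.inv_mem (WS Γ.t_mem_W))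
  · obtain ⟨y, ey⟩ := hv
    have xC : (x : G) ∈ Γ.C := Γ.mem_C.2 (mul_inv_eq_iff_eq_mul.1 (congrArg Subtype.val e)).symm
    refine WE _ (h.cW nv hk (Λ.B_le_N ⟨xC, Γ.cen_u (Γ.CN xC) (x := y) (fun j => v1 (Subtype.ext ?_)) ?_⟩)
      (x2.imp fun _ j => congrArg Subtype.val j) (Γ.tt ▸ one_mem _) (Γ.mem_C.1 xC)) x.2
    · exact ey.trans (Γ.u_eq_one.2 j)
    · rw [← ey]; exact congrArg Subtype.val k
  · obtain ⟨y, hy, e⟩ := Γ.nine h.card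
    exact ⟨⟨y, Γ.AE hy⟩, by rw [orderOf_mk, e],
      Subtype.ext (by rw [MulAut.conjNormal_apply, Γ.t_comm hy, mul_inv_cancel_right])⟩
  · exact mem_bot.1 (Γ.cE.le fun x hx =>
      (mul_inv_eq_iff_eq_mul.1 (show Γ.t * x * Γ.t⁻¹ = x from
        congrArg Subtype.val (DFunLike.congr_fun e (⟨x, hx⟩ : Γ.E)))).symm)
  · obtain ⟨l, e⟩ := Γ.trH (x := x) (y := y) (fun j => v1 (Subtype.ext (ex.trans (Γ.u_eq_one.2 j))))
      fun j => w1 (Subtype.ext (ey.trans (Γ.u_eq_one.2 j)))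
    exact isConj_iff.2 ⟨⟨_, Γ.AE (Γ.δA l)⟩, Subtype.ext (by rw [← ex, ← ey] at e; exact e)⟩
  · rw [Γ.cardA, h.card]; rfl

end Lev.Exc

open Tm

theorem Lev.out2_fix {Γ : Su F G} (Λ : Lev Γ) (nv : Γ.Nv) (hk : 1 ≤ Λ.k) (h : Λ.Fix) : Γ.Out2 := by
  by_cases hA : Fintype.card F = 4 ∧ Λ.k = 1 ∧ ∃ f, Γ.Fi f
  · obtain ⟨hq, h1, f, hf⟩ := hA
    exact Λ.out2_A hq nv h1 h hf
  have nc : ∀ f, Γ.Fi f → ∀ w ∈ Λ.Q, ¬ IsConj Γ.t (w * f) := fun f hf w hw ht => by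
    obtain ⟨φ, hφ⟩ := hf.fr
    have hn := mul_mem (le_normalizer hw) (Λ.BQ (Γ.T_le_B hf.mem))
    have hφ' := hφ.mul (Γ.mem_CV.1 (Λ.QC hw))
    by_cases hq : Fintype.card F = 4
    · exact Γ.not_conj_b hq (fun _ a _ b => Λ.comm a b) (Λ.root4 (by
        by_contra k; exact hA ⟨hq, by omega, f, hf⟩)) hn (sq_of ht) hφ' ht
    · exact Γ.not_conj_a hq (fun _ a _ b => Λ.comm a b) (Λ.root hk) hn (sq_of ht) hφ' ht
  obtain ⟨h1, h2⟩ := Γ.term Λ.pQ Λ.VQ Λ.tn Λ.BQ Λ.cen fun x hx ht => by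
    rcases Γ.dec Λ.VQ Λ.BQ Λ.cen hx (sq_of ht ▸ one_mem _) with e | e | ⟨f, hf, w, hw, rfl⟩
    · exact absurd ht (nv.V (Λ.om e (sq_of ht)))
    · obtain ⟨x, rfl⟩ : ∃ x', x = Γ.t * x' := ⟨_, (Γ.t_t x).symm⟩
      rw [Γ.t_t] at e
      obtain ⟨g, g1, g2⟩ := Γ.conjT ht Γ.pV fun v hv => mem_centralizer_singleton_iff.2
        (Λ.PC (mul_mem Λ.t_mem_P (Λ.Q_le_P e)) v hv)
      have g3 : g ∈ Γ.NV := Γ.mem_NV.2 fun y => by
        obtain ⟨w, hw, k⟩ := Λ.root hk y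
        have c : IsConj Γ.t (Γ.t * (g * Γ.u y * g⁻¹)) := ht.trans (isConj_iff.2 ⟨g * w⁻¹, by
          calc _ = g * (w⁻¹ * (Γ.t * x) * w) * g⁻¹ := by group
            _ = g * (Γ.t * x) * g⁻¹ * (g * Γ.u y * g⁻¹) := by rw [Λ.conj_tx e hw, k]; group
            _ = _ := by rw [g1]⟩)
        have := mul_mem Γ.t_mem_T (g2 _ (Γ.u_mem y))
        by_cases hW : Γ.t * (g * Γ.u y * g⁻¹) ∈ Γ.W
        · obtain ⟨a, k | k⟩ := Γ.mem_W.1 hW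
          exacts [absurd (k ▸ c) (nv a), ⟨a, mul_left_cancel k⟩]
        · exact absurd (by rwa [one_mul]) (nc _ ⟨this, hW, sq_of c⟩ 1 (one_mem _))
      have g4 : g⁻¹ * Γ.t * g⁻¹⁻¹ = Γ.t * x := by rw [← g1]; nth_rewrite 2 [g1]; group
      obtain ⟨w, hw, k⟩ := h _ (Λ.mem_N (Λ.ch nv (inv_mem g3) fun z hz => by
        rw [g4, mul_assoc Γ.t x, ← mul_assoc, Λ.inv _ (mul_mem e hz)]; group) (by rwa [g4, Γ.t_t]))
      exact ⟨w, hw, g4 ▸ k⟩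
    · exact absurd ht (nc f hf w hw)
  refine Γ.out2_ab h1 (fun _ a _ b => Λ.comm a b) ?_ h2
  rw [Λ.card]
  calc 8 < 4 ^ 2 := by norm_num
    _ ≤ _ := (Nat.pow_le_pow_left Γ.four 2).trans (Nat.pow_le_pow_right (by have := Γ.four; omega) (by omega))

namespace Nxt

variable {Γ : Su F G} {Λ : Lev Γ} (Ξ : Nxt Λ)

theorem out2_ab (nv : Γ.Nv) (h : Ξ.Ab) : Γ.Out2 := by
  have sqR : ∀ x ∈ Λ.Q, ∃ s ∈ Ξ.R, s * s = x := by
    let σ : Ξ.R →* G := MonoidHom.mk' (fun s => (s : G) * s) fun a b => by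
      simp only [coe_mul]
      rw [mul_assoc, ← mul_assoc (b : G), h.comm _ b.2 _ a.2, mul_assoc, mul_assoc]
    have k : σ.ker = Γ.V.subgroupOf Ξ.R := by
      ext s; exact ⟨fun e => h.om _ s.2 e, fun e => Γ.sq_V e⟩
    have c := σ.ker.card_mul_index
    rw [index_ker, k, Nat.card_congr (subgroupOfEquivOfLe Ξ.VR).toEquiv, Γ.card_V, Ξ.card, pow_succ', ← Λ.card] at c
    have e : σ.range = Λ.Q := eq_of_le_of_card_ge (by rintro _ ⟨s, rfl⟩; exact Ξ.sq s.2)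
      (Nat.eq_of_mul_eq_mul_left Fintype.card_pos c).ge
    intro x hx
    obtain ⟨s, rfl⟩ := e.ge hx
    exact ⟨s, s.2, rfl⟩
  obtain ⟨h1, h2⟩ := term Ξ nv h.inv (fun x hx ht => nv.V (h.om x hx (sq_of ht)) ht) fun f hf w hw ht => by
    obtain ⟨φ, hφ⟩ := hf.fr
    have fB := Γ.T_le_B hf.mem
    have hn := mul_mem (le_normalizer hw) (Ξ.BR fB)
    have hφ' := hφ.mul (Γ.mem_CV.1 (Ξ.RC hw))
    by_cases hq : Fintype.card F = 4
    swap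
    · exact Γ.not_conj_a hq h.comm (fun a => sqR _ (Λ.VQ (Γ.u_mem a))) hn (sq_of ht) hφ' ht
    rcases Nat.eq_zero_or_pos Λ.k with hk | hk
    swap
    · refine Γ.not_conj_b hq h.comm (fun a => ?_) hn (sq_of ht) hφ' ht
      obtain ⟨x, hx, e⟩ := Λ.root hk a
      obtain ⟨s, hs, rfl⟩ := sqR x hx
      exact ⟨s, hs, by rw [← e]; simp [pow_succ, mul_assoc]⟩
    obtain ⟨x₀, x0, hx⟩ := hφ.four hq
    obtain ⟨s, hs, e⟩ := Ξ.π_surj x₀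
    have sQ : s ∉ Λ.Q := fun k => x0 (e ▸ (Ξ.π_zero s hs).2 k)
    have fs := conj_mem_of (Ξ.BR fB) hs
    have a := Ξ.π_conj nv fB hs
    rw [e, hφ.conj, (hx x₀).2 (Or.inr rfl)] at a
    have b := (Ξ.π_zero _ (mul_mem hs fs)).1 (by rw [Ξ.π_mul _ hs _ fs, Γ.u_inj a, e, CharTwo.add_self_eq_zero])
    obtain ⟨σ, hσ⟩ := (Λ.Q_eq hk).le (Ξ.sq hs)
    have c := Γ.sq_V ((Λ.Q_eq hk).le b)
    rw [← pow_two, (nrm h.comm (Ξ.BR fB) hf.sq hs).2, pow_two, hσ, hφ.conj, ← Γ.u_add, Γ.u_eq_one] at c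
    rcases (hx σ).1 (CharTwo.add_eq_zero.1 c).symm with rfl | rfl
    · exact sQ (Λ.VQ (h.om s hs (hσ.trans Γ.u_zero)))
    · obtain ⟨y, hy⟩ := (Λ.Q_eq hk).le (Λ.conj_t nv (Ξ.RN hs))
      rw [Ξ.π_def, hy, Λ.bar_u_zero hk] at e
      refine sQ (h.inv s hs (eq_inv_of_mul_eq_one_left ?_))
      calc _ = Γ.t * (s * Γ.t * s⁻¹) * (s * s) := by group
        _ = 1 := by rw [hy, hσ, e, Γ.u_sq]
  exact Γ.out2_ab h1 h.comm (big Ξ) h2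

theorem out2_na (nv : Γ.Nv) (h : Ξ.Na) : Γ.Out2 := by
  have cR := Ξ.card
  have q4 := Γ.four
  rw [h.k] at cR
  obtain ⟨h1, h2⟩ := term Ξ nv h.inv (fun x hx ht => by
    have c := card_le Ξ.R x ((fun a => Γ.u a * x) '' Set.univ) fun a ha => by
      obtain ⟨y, e⟩ := h.two a ha x hx
      exact ⟨y, trivial, by simp only [← e]; group⟩
    have c2 : ((fun a => Γ.u a * x) '' Set.univ).ncard ≤ Fintype.card F := by
      rw [← Nat.card_eq_fintype_card, ← Set.ncard_univ]; exact Set.ncard_image_le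
    have c3 : Fintype.card F ^ 2 ≤ Nat.card ↥(Ξ.R ⊓ centralizer {x}) :=
      Nat.le_of_mul_le_mul_right (by rw [← pow_succ, ← cR]; exact c.trans (Nat.mul_le_mul_left _ c2)) (by omega)
    obtain ⟨g, g1, g2⟩ := Γ.conjT ht Ξ.pR.to_inf_left (inf_le_right : Ξ.R ⊓ centralizer {x} ≤ _)
    have xT : g •ᶜ (Ξ.R ⊓ centralizer {x}) ≤ Γ.T := cj_le_iff_forall.2 g2
    have vT : g •ᶜ Γ.V ≤ Γ.T := (cj_mono g (le_inf Ξ.VR fun v hv =>
      mem_centralizer_singleton_iff.2 (Ξ.RC hx v hv))).trans xT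
    have tV : Γ.t ∉ g •ᶜ Γ.V := fun k => nv.V (conj_mem_cj_iff.1 (g1 ▸ k)) ht
    have cc : ∀ y ∈ g •ᶜ Γ.V ⊔ zpowers Γ.t, ∀ z ∈ g •ᶜ (Ξ.R ⊓ centralizer {x}), z * y = y * z := fun y hy =>
      (sup_le (fun v hv z hz => by
          obtain ⟨v, hv', rfl⟩ := mem_cj'.1 hv
          obtain ⟨z, hz', rfl⟩ := mem_cj'.1 hz
          rw [conj_mul, conj_mul, Ξ.RC hz'.1 v hv'])
        (zpowers_le.2 fun z hz => Γ.mem_C.1 (Γ.T_le_C (xT hz))) :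
          g •ᶜ Γ.V ⊔ zpowers Γ.t ≤ centralizer ((g •ᶜ (Ξ.R ⊓ centralizer {x}) : Subgroup G) : Set G)) hy
    have tn : Γ.t ∈ normalizer ((g •ᶜ Γ.V : Subgroup G) : Set G) :=
      centralizer_le_normalizer _ fun v hv => Γ.mem_C.1 (Γ.T_le_C (vT hv))
    obtain ⟨-, e | ⟨hq, f, hf, hF⟩⟩ := Γ.el_T (X := g •ᶜ Γ.V ⊔ zpowers Γ.t) (fun y hy => by
      have k : ∀ v ∈ g •ᶜ Γ.V, v * v = 1 := fun v hv => by
        obtain ⟨v, hv', rfl⟩ := mem_cj'.1 hv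
        rw [conj_mul, Γ.sq_V hv']; group
      rcases (Γ.mem_sup_t tn).1 hy with e | e
      · exact k y e
      · have := k _ e
        rwa [mul_assoc, ← mul_assoc y, Γ.mem_C.1 (Γ.T_le_C ((sup_le vT (zpowers_le.2 Γ.t_mem_T)) hy)), mul_assoc,
          Γ.t_t] at this) (sup_le vT (zpowers_le.2 Γ.t_mem_T)) (by rw [Γ.card_sup_t tn tV, card_cj, Γ.card_V])
    · have := card_le_of_le (fun z hz => (Γ.mem_W_iff (xT hz)).2 fun v hv => (cc v (e.ge (Γ.V_le_W hv)) z hz).symm :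
        g •ᶜ (Ξ.R ⊓ centralizer {x}) ≤ Γ.W)
      rw [card_cj, Γ.card_W] at this
      nlinarith
    · have e := eq_of_le_of_card_ge xT (by rw [card_cj, (hF.four hq).1]; rw [hq] at c3; exact c3)
      exact hF.nW ((Γ.mem_W_iff hF.mem).2 fun v hv => cc f hf v (e.ge (Γ.V_le_T hv))))
    fun f hf w hw ht => by
      obtain ⟨φ, hφ⟩ := hf.fr
      have fB := Γ.T_le_B hf.mem
      by_cases hq : Fintype.card F = 4
      swap
      · exact Γ.not_conj_a hq (fun _ a _ b => Λ.comm a b) (Λ.root h.k.ge)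
          (mul_mem (Λ.N_le_NQ nv (Ξ.RN hw)) (Λ.BQ fB)) (sq_of ht) (hφ.mul (Γ.mem_CV.1 (Ξ.RC hw))) ht
      obtain ⟨x₀, x0, hx⟩ := hφ.four hq
      let I : Set G := {y | y * y = 1 ∧ y * f⁻¹ ∈ Ξ.R}
      have iv : ∀ y ∈ I, ∀ z ∈ I, y * (y⁻¹ * z) * y⁻¹ = (y⁻¹ * z)⁻¹ := fun y hy z hz => by
        rw [mul_inv_rev, inv_inv, inv_eq_of_mul_eq_one_right hz.1, inv_eq_of_mul_eq_one_right hy.1, ← mul_assoc, hy.1,
          one_mul]
      have fr : ∀ y ∈ I, ∀ a, y * Γ.u a * y⁻¹ = Γ.u (φ a) := fun y hy => by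
        simpa using (hφ.mul (Γ.mem_CV.1 (Ξ.RC hy.2))).conj
      have l0 : ∀ y ∈ I, {z ∈ I | y⁻¹ * z ∈ (⊥ : Subgroup G)}.ncard ≤ 1 := fun y _ =>
        (Set.ncard_le_ncard (t := {y}) fun z hz => (inv_mul_eq_one.1 (mem_bot.1 hz.2)).symm).trans (by simp)
      have li := Function.leftInverse_invFun Γ.u_inj
      have l1 := cover (L := Γ.V) (c := Function.invFun Γ.u) (x₀ := x₀)
        (by rintro _ ⟨a, rfl⟩ _ ⟨b, rfl⟩; rw [← Γ.u_add, li, li, li])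
        (by rintro _ ⟨a, rfl⟩ e; rw [li] at e; rw [e, Γ.u_zero]; exact one_mem _)
        (fun y hy z hz ⟨a, e⟩ => by
          have := iv y hy z hz
          rw [e, fr y hy, Γ.u_inv] at this
          rw [e, li]; exact (hx a).1 (Γ.u_inj this)) l0
      have l2 := cover (L := Λ.Q) (c := Λ.bar) (x₀ := x₀) (fun _ a _ b => Λ.bar_mul a b)
        (fun a ha e => by
          obtain ⟨w, hw, rfl⟩ := Λ.ker a ha e
          exact Λ.om ha (by rw [← Λ.exp hw, h.k]; simp [pow_succ, mul_assoc]))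
        (fun y hy z hz k => by
          have := Λ.bar_conj k (g := y) (iv y hy z hz ▸ inv_mem k)
          rw [iv y hy z hz, Λ.bar_inv k, fr y hy] at this
          exact (hx _).1 (Γ.u_inj this).symm) l1
      have l3 := cover (L := Ξ.R) (c := Ξ.π) (x₀ := x₀) Ξ.π_mul (fun a ha => (Ξ.π_zero a ha).1)
        (fun y hy z hz k => by
          have a := (π_cj Ξ hy.2 (conj_mem_of (Ξ.BR fB) k)).1
          rw [show ∀ x, y * f⁻¹ * (f * x * f⁻¹) * (y * f⁻¹)⁻¹ = y * x * y⁻¹ from fun x => by group, iv y hy z hz,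
            (π_cj Ξ k k).2] at a
          have := Ξ.π_conj nv fB k
          rw [← a, hφ.conj] at this
          exact (hx _).1 (Γ.u_inj this).symm) l2 (w * f) ⟨sq_of ht, by simpa using hw⟩
      have TR := Γ.T_le_B.trans Ξ.BR
      have c := card_le (Ξ.R ⊔ Γ.T) (w * f) {z ∈ I | (w * f)⁻¹ * z ∈ Ξ.R} fun s hs => by
        have k : s * (w * f) * s⁻¹ * f⁻¹ ∈ Ξ.R := by
          obtain ⟨τ, hτ, r, hr, rfl⟩ := mem_sup_of_norm TR (sup_comm Ξ.R _ ▸ hs)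
          rw [show τ * r * (w * f) * (τ * r)⁻¹ * f⁻¹ = τ * (r * w * (f * r⁻¹ * f⁻¹)) * τ⁻¹ * (τ * f * τ⁻¹ * f⁻¹) by group]
          exact mul_mem (conj_mem_of (TR hτ) (mul_mem (mul_mem hr hw) (conj_mem_of (Ξ.BR fB) (inv_mem hr))))
            (Ξ.VR (Γ.commT hτ hf.mem))
        refine ⟨⟨sq_of (ht.trans (isConj_iff.2 ⟨s, rfl⟩)), k⟩, ?_⟩
        simpa [mul_assoc] using conj_mem_of (inv_mem (Ξ.BR fB)) (mul_mem (inv_mem hw) k)
      have c1 := Γ.card_le ht (isPGroup_sup_of_normalizes' Ξ.pR Γ.pT TR).to_inf_left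
        (inf_le_right : (Ξ.R ⊔ Γ.T) ⊓ centralizer {w * f} ≤ _)
      have c2 := Γ.card_sup_T Ξ.VR Ξ.BR Ξ.cen
      rw [cR, hq, (hf.four hq).1] at c2
      rw [(hf.four hq).1] at c1
      have := c.trans (Nat.mul_le_mul c1 l3)
      omega
  exact Γ.out2_two h1 (fun a ha b hb c hc => Ξ.RC hc _ (h.two a ha b hb)) cR h2

end Nxt

theorem El.out2 {Γ : Su F G} {Q : Subgroup G} (h : El Γ Q) : Γ.Out2 := by
  obtain ⟨S, hS, hT⟩ := h.exists_S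
  by_cases hq : Fintype.card F ≠ 4 ∨ S ≤ Q ⊔ Γ.T
  · exact h.out2_sc hS hT hq
  · exact h.out2_C hS hT (not_not.1 fun e => hq (Or.inl e)) fun e => hq (Or.inr e)

theorem Lev.out2 {Γ : Su F G} (nv : Γ.Nv) (n : ℕ) : ∀ Λ : Lev Γ, Nat.card G ≤ Λ.k + n → 1 ≤ Λ.k ∨ ¬ Λ.Fix → Γ.Out2 := by
  induction n with
  | zero =>
    intro Λ h _
    have h1 := Λ.Q.card_le_card_group
    have h2 := Nat.lt_pow_self (n := Λ.k + 1) (show 1 < Fintype.card F by have := Γ.four; omega)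
    rw [Λ.card] at h1
    omega
  | succ n ih =>
    intro Λ h h1
    rcases Λ.step nv with h2 | h2 | ⟨⟨Ξ⟩⟩
    · exact Λ.out2_fix nv (h1.resolve_right (not_not.2 h2)) h2
    · rcases Nat.eq_zero_or_pos Λ.k with h3 | h3
      exacts [h2.out2_8 nv h3, h2.out2_B nv h3]
    · rcases Ξ.cases nv with h3 | h3 | h3 | h3
      · obtain ⟨Λ', e⟩ := Ξ.up nv h3
        exact ih Λ' (by omega) (Or.inl (by omega))
      exacts [h3.out2, Ξ.out2_ab nv h3, Ξ.out2_na nv h3]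

theorem Su.out2 (Γ : Su F G) : Γ.Out2 := by
  by_cases nv : Γ.Nv
  swap
  · exact Γ.out2_J nv
  rcases Γ.start nv with ⟨g, hg, h⟩ | ⟨hq, h, f, hf, hc⟩ | ⟨hq, h, hN, f, hf⟩
  · refine Γ.lev0.out2 nv (Nat.card G) (by omega) (Or.inr fun e => h ?_)
    obtain ⟨_, ⟨x, rfl⟩, e⟩ := e g hg
    rw [← Γ.t_u, mul_inv_cancel_right] at e
    exact Γ.mem_C.2 (mul_inv_eq_iff_eq_mul.1 e)
  exacts [Γ.out2_P hq nv h hf hc, Γ.out2_I hq nv h hN hf]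

end CL.L2S
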