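import Mathlib

/-!
# BS : elements of odd order centralizing an element of order 4 of `L₃(q)`, `q` even
-/

set_option autoImplicit false
open Subgroup Matrix
open scoped MatrixGroups

namespace CL.BS

/-- a matrix commuting with a regular nilpotent matrix is a polynomial in it -/
theorem P3C.poly {F : Type*} [Field F] [Finite F] {N Z : Matrix (Fin 3) (Fin 3) F} (h3 : N ^ 3 = 0) (h2 : N * N ≠ 0)
    (c : Z * N = N * Z) : ∃ a b d : F, Z = a • 1 + N * (b • 1 + d • N) := by
  obtain ⟨v, hv⟩ : ∃ v, (N * N) *ᵥ v ≠ 0 := by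
    by_contra h
    push Not at h
    exact h2 (Matrix.ext_iff_mulVec.2 fun v => by rw [h, zero_mulVec])
  have e3 : N * (N * N) = 0 := by rw [← h3, pow_three]
  let P : (Fin 3 → F) → Matrix (Fin 3) (Fin 3) F := fun x => x 0 • 1 + N * (x 1 • 1 + x 2 • N)
  have inj : Function.Injective fun x => P x *ᵥ v := fun x y e => by
    have e0 : P (x - y) *ᵥ v = 0 := by
      rw [← sub_eq_zero.2 e, ← sub_mulVec]
      congr 1
      simp only [P, Pi.sub_apply, sub_smul, mul_add, mul_sub]
      abel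
    rw [← sub_eq_zero]
    generalize x - y = w at e0
    have k : ∀ (M : Matrix (Fin 3) (Fin 3) F) (r : F), M * P w = r • (N * N) → r = 0 := fun M r h => by
      have := congrArg (M *ᵥ ·) e0
      simp only [mulVec_mulVec, mulVec_zero, h, smul_mulVec] at this
      exact (smul_eq_zero.1 this).resolve_right hv
    have h0 := k (N * N) (w 0) (by simp [P, mul_add, mul_assoc, e3])
    have h1 := k N (w 1) (by simp [P, mul_add, h0, e3])
    have h2 := k 1 (w 2) (by simp [P, h0, h1])
    ext i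
    fin_cases i <;> assumption
  have sur := Finite.injective_iff_surjective.1 inj
  obtain ⟨x, hx⟩ := sur (Z *ᵥ v)
  refine ⟨x 0, x 1, x 2, Matrix.ext_iff_mulVec.2 fun w => ?_⟩
  obtain ⟨y, rfl⟩ := sur w
  have cP : ∀ {M : Matrix (Fin 3) (Fin 3) F}, Commute M N → Commute M (P y) := fun {M} h =>
    ((Commute.one_right M).smul_right _).add_right (h.mul_right (((Commute.one_right M).smul_right _).add_right
      (h.smul_right _)))
  have c2 : Commute (P x) N := ((Commute.one_left N).smul_left _).add_left ((Commute.refl N).mul_left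
    (((Commute.one_left N).smul_left _).add_left ((Commute.refl N).smul_left _)))
  change Z *ᵥ (P y *ᵥ v) = P x *ᵥ (P y *ᵥ v)
  rw [mulVec_mulVec, mulVec_mulVec, (cP c).eq, (cP c2).eq, ← mulVec_mulVec, ← mulVec_mulVec, ← hx]

theorem psl3_cent0 {F : Type*} [Field F] [Fintype F] [CharP F 2] {u z : Matrix.ProjectiveSpecialLinearGroup (Fin 3) F}
    (hu : orderOf u = 4) (hz : Odd (orderOf z)) (c : u * z = z * u) : z = 1 := by
  have := Fact.mk Nat.prime_two
  have c3 : ∀ c ∈ center SL(3, F), c ^ 3 = 1 := fun c hc => by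
    obtain ⟨r, hr, e⟩ := Matrix.SpecialLinearGroup.mem_center_iff.1 hc
    exact Subtype.ext (by
      rw [Matrix.SpecialLinearGroup.coe_pow, ← e, ← map_pow]; rw [Fintype.card_fin] at hr; rw [hr, map_one]; rfl)
  obtain ⟨U, hU, U4⟩ : ∃ U : SL(3, F), (U : Matrix.ProjectiveSpecialLinearGroup (Fin 3) F) = u ∧ U ^ 4 = 1 := by
    obtain ⟨U, rfl⟩ := QuotientGroup.mk_surjective u
    have h4 := pow_orderOf_eq_one (U : Matrix.ProjectiveSpecialLinearGroup (Fin 3) F)
    rw [hu] at h4
    refine ⟨U ^ 9, by rw [QuotientGroup.mk_pow, show 9 = 4 * 2 + 1 from rfl, pow_succ, pow_mul, h4, one_pow, one_mul], ?_⟩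
    rw [← QuotientGroup.mk_pow, QuotientGroup.eq_one_iff] at h4
    rw [← pow_mul, show 9 * 4 = 4 * 3 * 3 from rfl, pow_mul, pow_mul, c3 _ h4, one_pow]
  subst hU
  obtain ⟨Z, rfl⟩ := QuotientGroup.mk_surjective z
  have h1 : Z * U * Z⁻¹ * U⁻¹ ∈ center SL(3, F) := by
    rw [← QuotientGroup.eq_one_iff, QuotientGroup.mk_mul, QuotientGroup.mk_mul, QuotientGroup.mk_mul, ← c,
      QuotientGroup.mk_inv, QuotientGroup.mk_inv]
    group
  have h2 : Z * U = U * Z := by
    generalize hk : Z * U * Z⁻¹ * U⁻¹ = k at h1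
    have e : Z * U * Z⁻¹ = k * U := by rw [← hk]; group
    have k4 : k ^ 4 = 1 := by
      have := congrArg (· ^ 4) e
      simp only [conj_pow, U4, mul_one, mul_inv_cancel] at this
      rw [(show Commute k U from (mem_center_iff.1 h1 U).symm).mul_pow, U4, mul_one] at this
      exact this.symm
    rw [pow_succ, c3 k h1, one_mul] at k4
    rwa [k4, one_mul, mul_inv_eq_iff_eq_mul] at e
  have p : ∀ n, (U.1 + 1) ^ 2 ^ n = U.1 ^ 2 ^ n + 1 := fun n => by
    rw [add_pow_char_pow_of_commute 2 n (Commute.one_right _), one_pow]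
  have t : ∀ m : Matrix (Fin 3) (Fin 3) F, m + m = 0 := fun m => by ext i j; exact CharTwo.add_self_eq_zero _
  have N4 : (U.1 + 1) ^ 4 = 0 := by
    rw [show 4 = 2 ^ 2 from rfl, p, show U.1 ^ 2 ^ 2 = 1 from congrArg Subtype.val U4, t]
  have N3 : (U.1 + 1) ^ 3 = 0 := by
    have h := (Matrix.isNilpotent_charpoly_sub_pow_of_isNilpotent ⟨4, N4⟩).eq_zero
    have := Matrix.aeval_self_charpoly (U.1 + 1)
    rwa [sub_eq_zero.1 h, map_pow, Polynomial.aeval_X, Fintype.card_fin] at this
  obtain ⟨a, b, d, e⟩ := P3C.poly (Z := Z.1) N3 (fun e => by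
    rw [← pow_two, ← pow_one 2, p, add_eq_zero_iff_eq_neg, neg_eq_of_add_eq_zero_right (t 1)] at e
    have h5 : U ^ 2 = 1 := Subtype.ext e
    have := orderOf_dvd_of_pow_eq_one (show (U : Matrix.ProjectiveSpecialLinearGroup (Fin 3) F) ^ 2 = 1 by
      rw [← QuotientGroup.mk_pow, h5, QuotientGroup.mk_one])
    rw [hu] at this
    omega) (by rw [mul_add, add_mul, mul_one, one_mul]; exact congrArg (· + Z.1) (congrArg Subtype.val h2))
  have h6 : (Z ^ 4).1 = (a ^ 4) • 1 := by
    rw [Matrix.SpecialLinearGroup.coe_pow, e, show 4 = 2 ^ 2 from rfl, add_pow_char_pow_of_commute 2 2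
      ((Commute.one_left _).smul_left _), (((Commute.one_right _).smul_right _).add_right
        ((Commute.refl _).smul_right _)).mul_pow, show 2 ^ 2 = 4 from rfl, N4, zero_mul, add_zero, smul_pow, one_pow]
  have h7 : (Z : Matrix.ProjectiveSpecialLinearGroup (Fin 3) F) ^ 2 ^ 2 = 1 := by
    rw [← QuotientGroup.mk_pow, QuotientGroup.eq_one_iff]
    exact mem_center_iff.2 fun g => Subtype.ext (by
      change g.1 * (Z ^ 4).1 = (Z ^ 4).1 * g.1
      rw [h6, mul_smul_comm, smul_mul_assoc, mul_one, one_mul])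
  exact orderOf_eq_one_iff.1 (Nat.Coprime.eq_one_of_dvd (Nat.Coprime.pow_right 2 (Nat.coprime_two_right.2 hz))
    (orderOf_dvd_of_pow_eq_one h7))

end CL.BS
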